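import Mathlib

/-!
Counting planes of a finite vector space with prescribed restriction of a relation by double counting.
-/

set_option autoImplicit false

namespace CfsgLib.IsoPlanes

open Module

variable {F V : Type*} [Field F] [Finite F] [AddCommGroup V] [Module F V] [FiniteDimensional F V]

theorem card_submodule (W : Submodule F V) : Nat.card W = Nat.card F ^ finrank F W :=
  Module.natCard_eq_pow_finrank

theorem span_pair_eq {W : Submodule F V} (hW : finrank F W = 2) {v w : V} (hv : v ∈ W) (hw : w ∈ W)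
    (hv0 : v ≠ 0) (hwv : w ∉ F ∙ v) : (F ∙ v) ⊔ (F ∙ w) = W ∧ finrank F ↥((F ∙ v) ⊔ (F ∙ w)) = 2 := by
  have hle : (F ∙ v) ⊔ (F ∙ w) ≤ W :=
    sup_le ((Submodule.span_singleton_le_iff_mem _ _).mpr hv) ((Submodule.span_singleton_le_iff_mem _ _).mpr hw)
  have hlt : (F ∙ v) < (F ∙ v) ⊔ (F ∙ w) := lt_of_le_of_ne le_sup_left fun h =>
    hwv (h.symm ▸ Submodule.mem_sup_right (Submodule.mem_span_singleton_self w))
  have h1 := Submodule.finrank_lt_finrank_of_lt hlt
  rw [finrank_span_singleton hv0] at h1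
  have h2 := Submodule.finrank_mono hle
  exact ⟨Submodule.eq_of_le_of_finrank_le hle (by omega), by omega⟩

theorem finrank_pair {v w : V} (hv0 : v ≠ 0) (hwv : w ∉ F ∙ v) :
    finrank F ↥((F ∙ v) ⊔ (F ∙ w)) = 2 := by
  have h := Submodule.finrank_sup_add_finrank_inf_eq (F ∙ v) (F ∙ w)
  have hw0 : w ≠ 0 := fun h' => hwv (h' ▸ Submodule.zero_mem _)
  have h0 : (F ∙ v) ⊓ (F ∙ w) = ⊥ := by
    rw [← disjoint_iff, Submodule.disjoint_span_singleton' hw0]
    exact hwv
  rw [h0, finrank_bot, finrank_span_singleton hv0, finrank_span_singleton hw0] at h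
  omega

/-- Planes through a fixed vector, counted by their second spanning vectors. -/
theorem card_planes_through (P : Submodule F V → Prop) (T : V → Prop) {v : V} (hv0 : v ≠ 0)
    (hspan : ∀ w, w ∉ F ∙ v → (P ((F ∙ v) ⊔ (F ∙ w)) ↔ T w)) :
    Nat.card {W : Submodule F V // finrank F W = 2 ∧ v ∈ W ∧ P W} * (Nat.card F ^ 2 - Nat.card F) =
      Nat.card {w : V // w ∉ F ∙ v ∧ T w} := by
  classical
  haveI : Finite V := Module.finite_of_finite F
  haveI : Finite (Submodule F V) := Finite.of_injective (fun W => (W : Set V)) SetLike.coe_injective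
  let Pl := {W : Submodule F V // finrank F W = 2 ∧ v ∈ W ∧ P W}
  let e : {w : V // w ∉ F ∙ v ∧ T w} ≃ Σ W : Pl, {w : V // w ∈ (W.1 : Set V) \ ((F ∙ v : Submodule F V) : Set V)} :=
    { toFun := fun w => ⟨⟨(F ∙ v) ⊔ (F ∙ w.1), finrank_pair hv0 w.2.1,
          Submodule.mem_sup_left (Submodule.mem_span_singleton_self v), (hspan w.1 w.2.1).mpr w.2.2⟩,
        ⟨w.1, Submodule.mem_sup_right (Submodule.mem_span_singleton_self w.1), w.2.1⟩⟩
      invFun := fun x => ⟨x.2.1, x.2.2.2, (hspan x.2.1 x.2.2.2).mp (by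
        rw [(span_pair_eq x.1.2.1 x.1.2.2.1 x.2.2.1 hv0 x.2.2.2).1]
        exact x.1.2.2.2)⟩
      left_inv := fun w => rfl
      right_inv := by
        rintro ⟨⟨W, hW, hvW, hP⟩, ⟨w, hwW, hwv⟩⟩
        refine Sigma.subtype_ext (Subtype.ext ?_) rfl
        exact (span_pair_eq hW hvW hwW hv0 hwv).1 }
  haveI : Fintype Pl := Fintype.ofFinite _
  have hfib : ∀ W : Pl,
      Nat.card {w : V // w ∈ (W.1 : Set V) \ ((F ∙ v : Submodule F V) : Set V)} =
        Nat.card F ^ 2 - Nat.card F := by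
    rintro ⟨W, hW, hvW, hP⟩
    have hsub : ((F ∙ v : Submodule F V) : Set V) ⊆ (W : Set V) :=
      (Submodule.span_singleton_le_iff_mem _ _).mpr hvW
    show ((W : Set V) \ ((F ∙ v : Submodule F V) : Set V)).ncard = _
    rw [Set.ncard_sdiff hsub, Set.ncard_def, Set.ncard_def]
    rw [← Set.ncard_def, ← Set.ncard_def, ← Nat.card_coe_set_eq, ← Nat.card_coe_set_eq]
    rw [SetLike.coe_sort_coe, SetLike.coe_sort_coe, card_submodule, card_submodule, hW,
      finrank_span_singleton hv0, pow_one]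
  rw [Nat.card_congr e, Nat.card_sigma, Finset.sum_congr rfl fun W _ => hfib W, Finset.sum_const,
    Finset.card_univ, ← Nat.card_eq_fintype_card, smul_eq_mul]

/-- All planes, counted by the non-zero vectors in them. -/
theorem card_planes_total (P : Submodule F V → Prop) (S : V → Prop) (N : ℕ)
    (hS : ∀ W : Submodule F V, finrank F W = 2 → P W → ∀ v ∈ W, v ≠ 0 → S v)
    (hN : ∀ v, v ≠ 0 → S v → Nat.card {W : Submodule F V // finrank F W = 2 ∧ v ∈ W ∧ P W} = N) :
    Nat.card {W : Submodule F V // finrank F W = 2 ∧ P W} * (Nat.card F ^ 2 - 1) =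
      Nat.card {v : V // v ≠ 0 ∧ S v} * N := by
  classical
  haveI : Finite V := Module.finite_of_finite F
  haveI : Finite (Submodule F V) := Finite.of_injective (fun W => (W : Set V)) SetLike.coe_injective
  let Pl := {W : Submodule F V // finrank F W = 2 ∧ P W}
  let Vx := {v : V // v ≠ 0 ∧ S v}
  haveI : Fintype Pl := Fintype.ofFinite _
  haveI : Fintype Vx := Fintype.ofFinite _
  let e : (Σ W : Pl, {v : V // v ∈ (W.1 : Set V) \ {0}}) ≃
      Σ v : Vx, {W : Submodule F V // finrank F W = 2 ∧ v.1 ∈ W ∧ P W} :=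
    { toFun := fun x => ⟨⟨x.2.1, x.2.2.2, hS x.1.1 x.1.2.1 x.1.2.2 x.2.1 x.2.2.1 x.2.2.2⟩,
        ⟨x.1.1, x.1.2.1, x.2.2.1, x.1.2.2⟩⟩
      invFun := fun y => ⟨⟨y.2.1, y.2.2.1, y.2.2.2.2⟩, ⟨y.1.1, y.2.2.2.1, y.1.2.1⟩⟩
      left_inv := fun x => rfl
      right_inv := fun y => rfl }
  have hfib : ∀ W : Pl, Nat.card {v : V // v ∈ (W.1 : Set V) \ {0}} = Nat.card F ^ 2 - 1 := by
    rintro ⟨W, hW, hP⟩
    show ((W : Set V) \ {0}).ncard = _
    rw [Set.ncard_sdiff (by simp), Set.ncard_singleton, ← Nat.card_coe_set_eq, SetLike.coe_sort_coe,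
      card_submodule, hW]
  have h := Nat.card_congr e
  rw [Nat.card_sigma, Nat.card_sigma, Finset.sum_congr rfl fun W _ => hfib W,
    Finset.sum_congr rfl fun (v : Vx) _ => hN v.1 v.2.1 v.2.2, Finset.sum_const, Finset.sum_const,
    Finset.card_univ, Finset.card_univ, ← Nat.card_eq_fintype_card, ← Nat.card_eq_fintype_card,
    smul_eq_mul, smul_eq_mul] at h
  exact h

end CfsgLib.IsoPlanes
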