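import Cfsg.Agent.Lib.IsoPlanes.Basic
import Cfsg.Agent.Lib.SympGeom.Basic
import Cfsg.Agent.Lib.Classical.Herm.Std

/-!
Isotropic lines of the symplectic and unitary generalised quadrangles.
-/

set_option autoImplicit false

namespace CfsgLib.IsoPlanes

open Module Cfsg

section Pair

variable {F V : Type*} [Field F] [AddCommGroup V] [Module F V]

/-- A sesquilinear form vanishes on the span of two vectors iff it vanishes on the generators. -/
theorem pair_iff (B : V → V → F) (σ : F → F) (hadd : ∀ x y z, B (x + y) z = B x z + B y z)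
    (hsmul : ∀ (c : F) x y, B (c • x) y = c * B x y)
    (hadd' : ∀ x y z, B x (y + z) = B x y + B x z)
    (hsmul' : ∀ (c : F) x y, B x (c • y) = σ c * B x y) (v w : V) :
    (∀ u ∈ (F ∙ v) ⊔ (F ∙ w), ∀ z ∈ (F ∙ v) ⊔ (F ∙ w), B u z = 0) ↔
      (B v v = 0 ∧ B v w = 0 ∧ B w v = 0 ∧ B w w = 0) := by
  constructor
  · intro h
    have hv : v ∈ (F ∙ v) ⊔ (F ∙ w) := Submodule.mem_sup_left (Submodule.mem_span_singleton_self v)
    have hw : w ∈ (F ∙ v) ⊔ (F ∙ w) := Submodule.mem_sup_right (Submodule.mem_span_singleton_self w)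
    exact ⟨h v hv v hv, h v hv w hw, h w hw v hv, h w hw w hw⟩
  · rintro ⟨h1, h2, h3, h4⟩ u hu z hz
    simp only [Submodule.mem_sup, Submodule.mem_span_singleton] at hu hz
    obtain ⟨_, ⟨a, rfl⟩, _, ⟨b, rfl⟩, rfl⟩ := hu
    obtain ⟨_, ⟨c, rfl⟩, _, ⟨d, rfl⟩, rfl⟩ := hz
    simp [hadd, hsmul, hadd', hsmul', h1, h2, h3, h4]

end Pair

section Sympl

open CfsgLib.SympGeom

variable {F : Type*} [Field F] [Fintype F]

theorem card_sympl_through (v : Fin 2 ⊕ Fin 2 → F) (hv : v ≠ 0) :
    Nat.card {W : Submodule F (Fin 2 ⊕ Fin 2 → F) // finrank F W = 2 ∧ v ∈ W ∧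
      ∀ u ∈ W, ∀ w ∈ W, sympForm 2 F u w = 0} = Fintype.card F + 1 := by
  classical
  set B := sympBilin 2 F with hBdef
  have hsw : ∀ x y : Fin 2 ⊕ Fin 2 → F, sympForm 2 F y x = -sympForm 2 F x y :=
    CfsgLib.Linear.Symp.form_swap
  have h := card_planes_through (F := F) (fun W => ∀ u ∈ W, ∀ w ∈ W, sympForm 2 F u w = 0)
    (fun w => sympForm 2 F v w = 0) hv (fun w _ => by
      show (∀ u ∈ _, ∀ z ∈ _, sympBilin 2 F u z = 0) ↔ _
      rw [pair_iff (fun x y => sympBilin 2 F x y) id (fun x y z => LinearMap.map_add₂ _ x y z)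
        (fun c x y => LinearMap.map_smul₂ _ c x y) (fun x y z => map_add _ y z)
        (fun c x y => map_smul _ c y) v w]
      simp only [sympBilin_apply]
      refine ⟨fun h => h.2.1, fun h => ⟨sympBilin_alt v, h, by rw [hsw, h, neg_zero], sympBilin_alt w⟩⟩)
  have hq := Fintype.one_lt_card (α := F)
  set K := LinearMap.ker (B v) with hK
  have hfK : finrank F K = 3 := by
    have h1 := LinearMap.finrank_range_add_finrank_ker (B v)
    have h2 : LinearMap.range (B v) = ⊤ := LinearMap.range_eq_top.mpr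
      (LinearMap.surjective fun h0 => hv (sympBilin_nondeg.1 v fun y => LinearMap.congr_fun h0 y))
    rw [h2, ← hK, finrank_top, finrank_self, finrank_space] at h1
    omega
  have hspan : ((F ∙ v : Submodule F _) : Set (Fin 2 ⊕ Fin 2 → F)) ⊆ (K : Set _) :=
    (Submodule.span_singleton_le_iff_mem _ _).mpr (LinearMap.mem_ker.mpr (sympBilin_alt v))
  have hT : Nat.card {w : Fin 2 ⊕ Fin 2 → F // w ∉ F ∙ v ∧ sympForm 2 F v w = 0} =
      Fintype.card F ^ 3 - Fintype.card F := by
    have e : {w : Fin 2 ⊕ Fin 2 → F // w ∉ F ∙ v ∧ sympForm 2 F v w = 0} ≃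
        {w : Fin 2 ⊕ Fin 2 → F // w ∈ (K : Set _) \ ((F ∙ v : Submodule F _) : Set _)} :=
      Equiv.subtypeEquivRight fun w =>
        ⟨fun h => ⟨LinearMap.mem_ker.mpr h.2, h.1⟩, fun h => ⟨h.2, LinearMap.mem_ker.mp h.1⟩⟩
    rw [Nat.card_congr e]
    show ((K : Set (Fin 2 ⊕ Fin 2 → F)) \ ((F ∙ v : Submodule F _) : Set _)).ncard = _
    rw [Set.ncard_sdiff hspan, ← Nat.card_coe_set_eq, ← Nat.card_coe_set_eq, SetLike.coe_sort_coe,
      SetLike.coe_sort_coe, card_submodule, card_submodule, hfK, finrank_span_singleton hv, pow_one,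
      Nat.card_eq_fintype_card]
  rw [hT, Nat.card_eq_fintype_card (α := F)] at h
  have hpos : Fintype.card F ^ 2 - Fintype.card F ≠ 0 := by
    have : Fintype.card F < Fintype.card F ^ 2 := by nlinarith
    omega
  refine Nat.eq_of_mul_eq_mul_right (Nat.pos_of_ne_zero hpos) (h.trans ?_)
  have h2 : Fintype.card F ≤ Fintype.card F ^ 2 := by nlinarith
  have h3 : Fintype.card F ≤ Fintype.card F ^ 3 := by nlinarith [h2]
  zify [h2, h3]
  ring

theorem card_sympl_lines :
    Nat.card {W : Submodule F (Fin 2 ⊕ Fin 2 → F) // finrank F W = 2 ∧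
      ∀ u ∈ W, ∀ w ∈ W, sympForm 2 F u w = 0} =
      (Fintype.card F + 1) * (Fintype.card F ^ 2 + 1) := by
  classical
  have hq := Fintype.one_lt_card (α := F)
  have h := card_planes_total (F := F) (V := Fin 2 ⊕ Fin 2 → F)
    (fun W => ∀ u ∈ W, ∀ w ∈ W, sympForm 2 F u w = 0) (fun _ => True) (Fintype.card F + 1)
    (fun _ _ _ _ _ _ => trivial) (fun v hv _ => card_sympl_through v hv)
  have hV : Nat.card {v : Fin 2 ⊕ Fin 2 → F // v ≠ 0 ∧ True} = Fintype.card F ^ 4 - 1 := by
    simp only [and_true]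
    show ({0}ᶜ : Set (Fin 2 ⊕ Fin 2 → F)).ncard = _
    rw [Set.ncard_compl, Set.ncard_singleton, Nat.card_eq_fintype_card, Fintype.card_fun]
    simp
  rw [hV, Nat.card_eq_fintype_card (α := F)] at h
  have hpos : Fintype.card F ^ 2 - 1 ≠ 0 := by
    have : 1 < Fintype.card F ^ 2 := by nlinarith
    omega
  refine Nat.eq_of_mul_eq_mul_right (Nat.pos_of_ne_zero hpos) (h.trans ?_)
  have h2 : 1 ≤ Fintype.card F ^ 2 := by nlinarith
  have h4 : 1 ≤ Fintype.card F ^ 4 := by nlinarith
  zify [h2, h4]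
  ring

end Sympl

section Herm

open CfsgLib.Classical.Herm CfsgLib.Classical.Herm.HermSpace

variable {F : Type*} [Field F] [Fintype F] {q : ℕ}

/-- Elements of trace zero. -/
theorem card_trace_zero (hF : Fintype.card F = q ^ 2) {n : ℕ} :
    Nat.card {t : F // t + (stdHerm hF n).conj t = 0} = q := by
  classical
  set H := stdHerm hF n
  obtain ⟨l, hl, hlt⟩ := exists_skew H
  have hlc : H.conj l = -l := eq_neg_of_add_eq_zero_right hlt
  have e : {t : F // t + H.conj t = 0} ≃ {c : F // qPow hF c = c} :=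
    { toFun := fun t => ⟨t.1 / l, by
        show H.conj (t.1 / l) = _
        rw [map_div₀, hlc, eq_neg_of_add_eq_zero_right t.2, neg_div_neg_eq]⟩
      invFun := fun c => ⟨c.1 * l, by
        rw [map_mul, hlc, show H.conj c.1 = c.1 from c.2, mul_neg, add_neg_cancel]⟩
      left_inv := fun t => Subtype.ext (div_mul_cancel₀ _ hl)
      right_inv := fun c => Subtype.ext (mul_div_cancel_right₀ _ hl) }
  rw [Nat.card_congr e]
  have h2 := two_le_of_card hF
  show ({c : F | qPow hF c = c} : Set F).ncard = q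
  have hins : ({c : F | qPow hF c = c} : Set F) =
      insert 0 {c : F | c ≠ 0 ∧ qPow hF c = c} := by
    ext c
    by_cases hc : c = 0
    · simp [hc, show q ≠ 0 by omega]
    · simp [hc]
  rw [hins, Set.ncard_insert_of_notMem (by simp)]
  have hu : Nat.card {c : F // c ≠ 0 ∧ qPow hF c = c} = q - 1 := by
    rw [← card_fixed_units hF]
    exact Nat.card_congr
      { toFun := fun c => ⟨Units.mk0 c.1 c.2.1, (qPow_fixed_unit_iff hF _).1 c.2.2⟩
        invFun := fun u => ⟨(u.1 : F), u.1.ne_zero, (qPow_fixed_unit_iff hF _).2 u.2⟩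
        left_inv := fun c => Subtype.ext rfl
        right_inv := fun u => Subtype.ext (Units.ext rfl) }
  rw [← Nat.card_coe_set_eq]
  show Nat.card {c : F // c ≠ 0 ∧ qPow hF c = c} + 1 = q
  omega

/-- Isotropic vectors outside the orthogonal of a non-zero isotropic vector. -/
theorem card_iso_nonorth (hF : Fintype.card F = q ^ 2) {n : ℕ} {v : Fin n → F}
    (hvv : (stdHerm hF n).h v v = 0) :
    Nat.card {y : Fin n → F // (stdHerm hF n).h y y = 0 ∧ (stdHerm hF n).h y v ≠ 0} * q ^ 2 =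
      Nat.card {x : Fin n → F // (stdHerm hF n).h x v ≠ 0} * q := by
  classical
  set H := stdHerm hF n with hH
  choose τ hτ using fun (x : Fin n → F) =>
    exists_trace H (c := -H.h x x) (by rw [map_neg, conj_diag H])
  have hshift : ∀ (x : Fin n → F) (a : F), H.h (x + a • v) v = H.h x v := fun x a => by
    rw [H.add_left, H.smul_left, hvv, mul_zero, add_zero]
  have hnorm : ∀ (x : Fin n → F) (a : F), H.h (x + a • v) (x + a • v) =
      H.h x x + (H.conj a * H.h x v + H.conj (H.conj a * H.h x v)) := fun x a => by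
    rw [H.add_left, add_right H, add_right H, H.smul_left, H.smul_left, smul_right H, smul_right H,
      hvv, map_mul, H.conj_conj, H.symm' x v]
    ring
  -- parameters
  let X := {x : Fin n → F // H.h x v ≠ 0}
  let Y := {y : Fin n → F // H.h y y = 0 ∧ H.h y v ≠ 0}
  let K := {t : F // t + H.conj t = 0}
  let par : X × K → F := fun p => H.conj ((τ p.1.1 + p.2.1) / H.h p.1.1 v)
  have hpar : ∀ p : X × K, H.conj (par p) * H.h p.1.1 v = τ p.1.1 + p.2.1 := fun p => by
    simp only [par, H.conj_conj]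
    exact div_mul_cancel₀ _ p.1.2
  have e : X × K ≃ Y × F :=
    { toFun := fun p => (⟨p.1.1 + par p • v, by
          rw [hnorm, hpar, map_add]
          linear_combination hτ p.1.1 + p.2.2, by rw [hshift]; exact p.1.2⟩, par p)
      invFun := fun r => (⟨r.1.1 - r.2 • v, by
          rw [sub_eq_add_neg, ← neg_smul, hshift]; exact r.1.2.2⟩,
        ⟨H.conj r.2 * H.h r.1.1 v - τ (r.1.1 - r.2 • v), by
          have h1 := hnorm (r.1.1 - r.2 • v) r.2
          rw [sub_add_cancel, r.1.2.1] at h1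
          have h2 : H.h (r.1.1 - r.2 • v) v = H.h r.1.1 v := by
            rw [sub_eq_add_neg, ← neg_smul, hshift]
          rw [h2] at h1
          rw [map_sub]
          linear_combination -h1 - hτ (r.1.1 - r.2 • v)⟩)
      left_inv := fun p => by
        obtain ⟨⟨x, hx⟩, ⟨t, ht⟩⟩ := p
        refine Prod.ext (Subtype.ext (add_sub_cancel_right x _)) (Subtype.ext ?_)
        simp only [hshift, add_sub_cancel_right]
        rw [hpar ⟨⟨x, hx⟩, ⟨t, ht⟩⟩]
        exact add_sub_cancel_left _ t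
      right_inv := fun r => by
        obtain ⟨⟨y, hy1, hy2⟩, a⟩ := r
        have h2 : H.h (y - a • v) v = H.h y v := by rw [sub_eq_add_neg, ← neg_smul, hshift]
        have hp : H.conj ((τ (y - a • v) + (H.conj a * H.h y v - τ (y - a • v))) /
            H.h (y - a • v) v) = a := by
          rw [add_sub_cancel, h2, mul_div_cancel_right₀ _ hy2, H.conj_conj]
        refine Prod.ext (Subtype.ext ?_) hp
        simp only [par, hp, sub_add_cancel] }
  have h := Nat.card_congr e
  rw [Nat.card_prod, Nat.card_prod, card_trace_zero hF, Nat.card_eq_fintype_card (α := F), hF] at h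
  exact h.symm

/-- `q` times the number of isotropic vectors orthogonal to a fixed one. -/
theorem card_iso_orth (hF : Fintype.card F = q ^ 2) {n : ℕ} {v : Fin n → F} (hv : v ≠ 0)
    (hvv : (stdHerm hF n).h v v = 0) :
    (q : ℤ) * Nat.card {y : Fin n → F // (stdHerm hF n).h y y = 0 ∧ (stdHerm hF n).h y v = 0} =
      (q : ℤ) ^ (2 * (n - 1)) + (-(q : ℤ)) ^ n * ((q : ℤ) - 1) := by
  classical
  set H := stdHerm hF n with hH
  have hq := two_le_of_card hF
  have hsplit : levelCount n F q 0 =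
      Nat.card {y : Fin n → F // H.h y y = 0 ∧ H.h y v = 0} +
        Nat.card {y : Fin n → F // H.h y y = 0 ∧ H.h y v ≠ 0} := by
    rw [← Nat.card_sum]
    refine Nat.card_congr ?_
    exact
      { toFun := fun y => if h : H.h y.1 v = 0 then .inl ⟨y.1, y.2, h⟩ else .inr ⟨y.1, y.2, h⟩
        invFun := fun s => s.elim (fun y => ⟨y.1, y.2.1⟩) (fun y => ⟨y.1, y.2.1⟩)
        left_inv := fun y => by by_cases h : H.h y.1 v = 0 <;> simp [h]
        right_inv := fun s => by
          rcases s with y | y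
          · simp [y.2.2]
          · simp [y.2.2] }
  have hker : finrank F (LinearMap.ker (HermSpace.form H v)) + 1 = n := by
    obtain ⟨x, hx⟩ := exists_h_one H hv
    have h1 := LinearMap.finrank_range_add_finrank_ker (HermSpace.form H v)
    have h2 : LinearMap.range (HermSpace.form H v) = ⊤ := LinearMap.range_eq_top.mpr
      (LinearMap.surjective fun h0 => one_ne_zero (α := F) (by
        have := LinearMap.congr_fun h0 x
        rwa [form_apply, hx] at this))
    rw [h2, finrank_top, finrank_self, finrank_fintype_fun_eq_card, Fintype.card_fin] at h1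
    omega
  have hX : Nat.card {x : Fin n → F // H.h x v ≠ 0} = (q ^ 2) ^ n - (q ^ 2) ^ (n - 1) := by
    show ((LinearMap.ker (HermSpace.form H v) : Set (Fin n → F))ᶜ).ncard = _
    rw [Set.ncard_compl, ← Nat.card_coe_set_eq, SetLike.coe_sort_coe, card_submodule,
      Nat.card_eq_fintype_card (α := F), Nat.card_fun, Nat.card_fin, Nat.card_eq_fintype_card, hF,
      show finrank F (LinearMap.ker (HermSpace.form H v)) = n - 1 by omega]
  have hno := card_iso_nonorth hF hvv
  rw [← hH, hX] at hno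
  have hL := levelCount_zero_formula hF n
  rw [hsplit] at hL
  have hle : (q ^ 2) ^ (n - 1) ≤ (q ^ 2) ^ n := Nat.pow_le_pow_right (by positivity) (Nat.sub_le n 1)
  have hno' : ((Nat.card {y : Fin n → F // H.h y y = 0 ∧ H.h y v ≠ 0} * q ^ 2 : ℕ) : ℤ) =
      ((((q ^ 2) ^ n - (q ^ 2) ^ (n - 1)) * q : ℕ) : ℤ) := by rw [hno]
  push_cast [Nat.cast_sub hle] at hno' hL
  refine mul_left_cancel₀ (show (q : ℤ) ≠ 0 by omega) ?_
  rw [pow_mul (q : ℤ) 2] at hL ⊢
  linear_combination (q : ℤ) * hL - hno'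

theorem hermForm_swap (hF : Fintype.card F = q ^ 2) {n : ℕ} {x y : Fin n → F}
    (h : hermForm n F q x y = 0) : hermForm n F q y x = 0 :=
  h_comm_zero (stdHerm hF n) h

theorem card_herm_through (hF : Fintype.card F = q ^ 2) {n : ℕ} {v : Fin n → F} (hv : v ≠ 0)
    (hvv : hermForm n F q v v = 0) :
    (q : ℤ) * (Nat.card {W : Submodule F (Fin n → F) // finrank F W = 2 ∧ v ∈ W ∧
        ∀ u ∈ W, ∀ w ∈ W, hermForm n F q u w = 0}) * ((q : ℤ) ^ 4 - (q : ℤ) ^ 2) =
      (q : ℤ) ^ (2 * (n - 1)) + (-(q : ℤ)) ^ n * ((q : ℤ) - 1) - (q : ℤ) ^ 3 := by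
  classical
  set H := stdHerm hF n with hH
  have h := card_planes_through (F := F) (fun W => ∀ u ∈ W, ∀ w ∈ W, hermForm n F q u w = 0)
    (fun w => H.h w w = 0 ∧ H.h w v = 0) hv (fun w _ => by
      show (∀ u ∈ _, ∀ z ∈ _, H.h u z = 0) ↔ _
      rw [pair_iff H.h H.conj H.add_left H.smul_left (add_right H) (fun c x y => smul_right H c x y) v w]
      exact ⟨fun h => ⟨h.2.2.2, h.2.2.1⟩, fun h => ⟨hvv, h_comm_zero H h.2, h.2, h.1⟩⟩)
  set T : Set (Fin n → F) := {y | H.h y y = 0 ∧ H.h y v = 0} with hT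
  have hsub : ((F ∙ v : Submodule F (Fin n → F)) : Set (Fin n → F)) ⊆ T := by
    intro y hy
    obtain ⟨a, rfl⟩ := Submodule.mem_span_singleton.mp hy
    have hvv' : H.h v v = 0 := hvv
    exact ⟨by rw [H.smul_left, smul_right H, hvv', mul_zero, mul_zero],
      by rw [H.smul_left, hvv', mul_zero]⟩
  have hcard : Nat.card {w : Fin n → F // w ∉ F ∙ v ∧ (H.h w w = 0 ∧ H.h w v = 0)} =
      T.ncard - q ^ 2 := by
    rw [Nat.card_congr (Equiv.subtypeEquivRight (q := fun w => w ∈ T \ ((F ∙ v : Submodule F _) : Set _))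
      fun w => ⟨fun h => ⟨h.2, h.1⟩, fun h => ⟨h.2, h.1⟩⟩)]
    show (T \ ((F ∙ v : Submodule F _) : Set _)).ncard = _
    rw [Set.ncard_sdiff hsub, ← Nat.card_coe_set_eq ((F ∙ v : Submodule F (Fin n → F)) : Set (Fin n → F)),
      SetLike.coe_sort_coe,
      card_submodule, finrank_span_singleton hv, pow_one, Nat.card_eq_fintype_card (α := F), hF]
  have hTc : (q : ℤ) * T.ncard = (q : ℤ) ^ (2 * (n - 1)) + (-(q : ℤ)) ^ n * ((q : ℤ) - 1) := by
    rw [← Nat.card_coe_set_eq]
    exact card_iso_orth hF hv hvv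
  have hle : q ^ 2 ≤ T.ncard := by
    have := Set.ncard_le_ncard hsub
    rwa [← Nat.card_coe_set_eq, SetLike.coe_sort_coe, card_submodule, finrank_span_singleton hv,
      pow_one, Nat.card_eq_fintype_card, hF] at this
  rw [hcard, Nat.card_eq_fintype_card (α := F), hF] at h
  have hle2 : q ^ 2 ≤ (q ^ 2) ^ 2 := Nat.le_self_pow (by norm_num) _
  have h' := congrArg (fun k : ℕ => (k : ℤ)) h
  push_cast [Nat.cast_sub hle, Nat.cast_sub hle2] at h'
  linear_combination (q : ℤ) * h' + hTc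

theorem card_herm_lines (hF : Fintype.card F = q ^ 2) {n : ℕ} (N : ℕ)
    (hN : (q : ℤ) * N * ((q : ℤ) ^ 4 - (q : ℤ) ^ 2) =
      (q : ℤ) ^ (2 * (n - 1)) + (-(q : ℤ)) ^ n * ((q : ℤ) - 1) - (q : ℤ) ^ 3) :
    (q : ℤ) * Nat.card {W : Submodule F (Fin n → F) // finrank F W = 2 ∧
        ∀ u ∈ W, ∀ w ∈ W, hermForm n F q u w = 0} * ((q : ℤ) ^ 4 - 1) =
      ((q : ℤ) ^ (2 * n) + (-(q : ℤ)) ^ n * ((q : ℤ) - 1) - q) * N := by
  classical
  have hq := two_le_of_card hF
  have hne : ((q : ℤ) * ((q : ℤ) ^ 4 - (q : ℤ) ^ 2)) ≠ 0 := by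
    have h1 : (2 : ℤ) ≤ q := by exact_mod_cast hq
    have h2 : (4 : ℤ) ≤ (q : ℤ) ^ 2 := by nlinarith
    have h3 : (q : ℤ) ^ 2 < (q : ℤ) ^ 4 := by nlinarith
    exact mul_ne_zero (by omega) (by omega)
  have h := card_planes_total (F := F) (V := Fin n → F)
    (fun W => ∀ u ∈ W, ∀ w ∈ W, hermForm n F q u w = 0) (fun v => hermForm n F q v v = 0) N
    (fun W _ hP v hv _ => hP v hv v hv) (fun v hv hvv => by
      refine Int.natCast_inj.1 (mul_left_cancel₀ hne ?_)
      linear_combination card_herm_through hF hv hvv - hN)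
  have hV : Nat.card {v : Fin n → F // v ≠ 0 ∧ hermForm n F q v v = 0} + 1 = levelCount n F q 0 := by
    show Nat.card ↥({v : Fin n → F | v ≠ 0 ∧ hermForm n F q v v = 0}) + 1 = _
    rw [Nat.card_coe_set_eq]
    have hins : ({v : Fin n → F | hermForm n F q v v = 0} : Set (Fin n → F)) =
        insert 0 {v | v ≠ 0 ∧ hermForm n F q v v = 0} := by
      ext v
      by_cases hv : v = 0 <;> simp [hv, hermForm]
    have h2 : ({v : Fin n → F | hermForm n F q v v = 0} : Set (Fin n → F)).ncard = levelCount n F q 0 :=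
      (Nat.card_coe_set_eq _).symm
    rw [← h2, hins, Set.ncard_insert_of_notMem (by simp)]
  have hL := levelCount_zero_formula hF n
  rw [← hV] at hL
  have hle : 1 ≤ (Nat.card F) ^ 2 := Nat.one_le_pow _ _ Nat.card_pos
  have h' := congrArg (fun k : ℕ => (k : ℤ)) h
  push_cast [Nat.cast_sub hle] at h' hL
  rw [Nat.card_eq_fintype_card (α := F), hF] at h'
  push_cast at h'
  linear_combination (q : ℤ) * h' + (N : ℤ) * hL

theorem card_herm_lines_four (hF : Fintype.card F = q ^ 2) :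
    Nat.card {W : Submodule F (Fin 4 → F) // finrank F W = 2 ∧
        ∀ u ∈ W, ∀ w ∈ W, hermForm 4 F q u w = 0} = (q + 1) * (q ^ 3 + 1) := by
  have hq : (2 : ℤ) ≤ q := by exact_mod_cast two_le_of_card hF
  have h := card_herm_lines hF (n := 4) (q + 1) (by push_cast; ring)
  refine Int.natCast_inj.1 (mul_left_cancel₀ (show (q : ℤ) * ((q : ℤ) ^ 4 - 1) ≠ 0 from ?_) ?_)
  · refine mul_ne_zero (by omega) ?_
    have h2 : (4 : ℤ) ≤ (q : ℤ) ^ 2 := by nlinarith
    have h3 : (q : ℤ) ^ 2 < (q : ℤ) ^ 4 := by nlinarith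
    omega
  · push_cast at h ⊢
    linear_combination h

theorem card_herm_lines_five (hF : Fintype.card F = q ^ 2) :
    Nat.card {W : Submodule F (Fin 5 → F) // finrank F W = 2 ∧
        ∀ u ∈ W, ∀ w ∈ W, hermForm 5 F q u w = 0} = (q ^ 3 + 1) * (q ^ 5 + 1) := by
  have hq : (2 : ℤ) ≤ q := by exact_mod_cast two_le_of_card hF
  have h := card_herm_lines hF (n := 5) (q ^ 3 + 1) (by push_cast; ring)
  refine Int.natCast_inj.1 (mul_left_cancel₀ (show (q : ℤ) * ((q : ℤ) ^ 4 - 1) ≠ 0 from ?_) ?_)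
  · refine mul_ne_zero (by omega) ?_
    have h2 : (4 : ℤ) ≤ (q : ℤ) ^ 2 := by nlinarith
    have h3 : (q : ℤ) ^ 2 < (q : ℤ) ^ 4 := by nlinarith
    omega
  · push_cast at h ⊢
    linear_combination h

end Herm

end CfsgLib.IsoPlanes
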